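import Groth.Agent.ArtinVanLib.DimFunMain
import Groth.Agent.CdTameLib.TameDim
import Groth.Agent.CdTameLib.SchemeDim
import Groth.Agent.S3486
import Groth.Agent.CdFieldLib.SHField
import Groth.Agent.RpushTorsLib.LTors
import Groth.Prelude.Def_EGA4b

/-!
# Cohomological dimension of the punctured spectrum of a two-dimensional henselian normal domain
-/

set_option autoImplicit false

universe u

open CategoryTheory CategoryTheory.Limits AlgebraicGeometry Opposite

noncomputable section

namespace Groth.Agent.HLocCdLib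

set_option linter.style.haveILetI false
set_option backward.isDefEq.respectTransparency false
set_option backward.isDefEq.respectTransparency.types false
set_option maxHeartbeats 1000000

open CdFieldLib

theorem ringKrullDim_integralClosure_le (R L : Type u) [CommRing R] [CommRing L] [Algebra R L] :
    ringKrullDim ↥(integralClosure R L) ≤ ringKrullDim R := by
  refine Order.krullDim_le_of_strictMono (PrimeSpectrum.comap (algebraMap R ↥(integralClosure R L))) fun P Q h => ?_
  haveI := P.isPrime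
  exact Ideal.IsIntegral.comap_lt_comap (I := P.asIdeal) (J := Q.asIdeal) h

theorem height_le_one {C : Type u} [CommRing C] [IsNoetherianRing C] (hd : ringKrullDim C ≤ 2)
    (P : Ideal C) [P.IsPrime] (hP : ¬ P.IsMaximal) : P.height ≤ 1 := by
  obtain ⟨M, hM, hle⟩ := Ideal.exists_le_maximal P (Ideal.IsPrime.ne_top inferInstance)
  haveI := hM.isPrime
  have hlt : P.height + 1 ≤ M.height :=
    Order.add_one_le_of_lt (Ideal.height_strict_mono_of_isPrime (hle.lt_of_ne fun e => hP (e ▸ hM)))
  have h2 : (M.height : WithBot ℕ∞) ≤ 2 := (Ideal.height_le_ringKrullDim_of_ne_top hM.ne_top).trans hd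
  have h3 : P.height + 1 ≤ 1 + 1 := hlt.trans (WithBot.coe_le_coe.1 (by norm_num; exact h2))
  exact (ENat.add_le_add_iff_right ENat.one_ne_top).1 h3

theorem stalk_facts {C : Type u} [CommRing C] (p : PrimeSpectrum C) :
    ringKrullDim ((Spec (CommRingCat.of C)).presheaf.stalk p) = p.asIdeal.height := by
  letI : Algebra C ((Spec (CommRingCat.of C)).presheaf.stalk p) := StructureSheaf.stalkAlgebra C p
  haveI : IsLocalization.AtPrime ((Spec (CommRingCat.of C)).presheaf.stalk p) p.asIdeal :=
    StructureSheaf.IsLocalization.to_stalk C p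
  exact IsLocalization.AtPrime.ringKrullDim_eq_height p.asIdeal _

theorem nonempty_stalk_iso_fraction {C : Type u} [CommRing C] [IsDomain C] (K : Type u) [Field K] [Algebra C K]
    [IsFractionRing C K] (p : PrimeSpectrum C) (hp : p = ⊥) :
    Nonempty ((Spec (CommRingCat.of C)).presheaf.stalk p ≅ CommRingCat.of K) := by
  subst hp
  letI : Algebra C ((Spec (CommRingCat.of C)).presheaf.stalk (⊥ : PrimeSpectrum C)) :=
    StructureSheaf.stalkAlgebra C (⊥ : PrimeSpectrum C)
  haveI h : IsLocalization.AtPrime ((Spec (CommRingCat.of C)).presheaf.stalk (⊥ : PrimeSpectrum C)) (⊥ : PrimeSpectrum C).asIdeal :=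
    StructureSheaf.IsLocalization.to_stalk C (⊥ : PrimeSpectrum C)
  have hM : (⊥ : PrimeSpectrum C).asIdeal.primeCompl = nonZeroDivisors C := by
    ext x
    exact mem_nonZeroDivisors_iff_ne_zero.symm
  haveI hF : IsLocalization (nonZeroDivisors C) ((Spec (CommRingCat.of C)).presheaf.stalk (⊥ : PrimeSpectrum C)) := by
    have h' := h
    unfold IsLocalization.AtPrime at h'
    rwa [hM] at h'
  exact ⟨(IsLocalization.algEquiv (nonZeroDivisors C)
    ((Spec (CommRingCat.of C)).presheaf.stalk (⊥ : PrimeSpectrum C)) K).toRingEquiv.toCommRingCatIso⟩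

theorem cdLE_fracQuot {O R : Type u} [CommRing O] [IsLocalRing O] [IsNoetherianRing O] [CommRing R] [IsLocalRing R]
    [Algebra O R] [IsLocalHom (algebraMap O R)] [Hensel.IsStrictHenselization O R] (hdim : ringKrullDim O ≤ 1)
    (hℓ : ∀ ℓ : ℕ, ℓ.Prime → IsUnit (ℓ : O)) (P : Ideal R) [P.IsPrime] :
    CdLE Set.univ (Spec (CommRingCat.of (FractionRing (R ⧸ P)))) 1 := by
  obtain ⟨eH⟩ := Henselization.exists_algEquiv_of_isStrictHenselization O R
  haveI : IsNoetherianRing R := (Henselization.isNoetherianRing_of_equiv eH).2 inferInstance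
  haveI : HenselianLocalRing R := Hensel.IsStrictHenselization.henselian (R := O) (S := R)
  haveI : IsSepClosed (IsLocalRing.ResidueField R) :=
    (Hensel.IsStrictHenselization.isSepClosure (R := O) (S := R)).sep_closed
  have hdR : ringKrullDim R ≤ 1 := (Henselization.ringKrullDim_of_equiv eH).trans_le hdim
  by_cases hP : P.IsMaximal
  · obtain rfl : P = IsLocalRing.maximalIdeal R := IsLocalRing.eq_maximalIdeal hP
    let eC : CommRingCat.of (FractionRing (R ⧸ IsLocalRing.maximalIdeal R)) ≅
        CommRingCat.of (IsLocalRing.ResidueField R) :=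
      RingEquiv.toCommRingCatIso
        (FractionRing.algEquiv (IsLocalRing.ResidueField R) (IsLocalRing.ResidueField R)).toRingEquiv
    exact (cdLE_of_iso (asIso (Spec.map eC.inv))
      (cdLE_zero_of_sepClosed Set.univ (IsLocalRing.ResidueField R))).mono zero_le_one
  · have h1 : ringKrullDim R = 1 := by
      refine le_antisymm hdR ?_
      have h2 : P.height + 1 ≤ (IsLocalRing.maximalIdeal R).height :=
        Order.add_one_le_of_lt (Ideal.height_strict_mono_of_isPrime ((IsLocalRing.le_maximalIdeal (Ideal.IsPrime.ne_top inferInstance)).lt_of_ne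
          fun e => hP (e ▸ IsLocalRing.maximalIdeal.isMaximal R)))
      rw [← IsLocalRing.maximalIdeal_height_eq_ringKrullDim]
      exact WithBot.coe_le_coe.2 (le_trans le_add_self h2)
    have hmin : P ∈ minimalPrimes R := by
      obtain ⟨Q, hQ, hQP⟩ := Ideal.exists_minimalPrimes_le (bot_le : (⊥ : Ideal R) ≤ P)
      by_cases hQP' : Q = P
      · exact hQP' ▸ hQ
      · exfalso
        haveI := hQ.1.1
        have a1 : Q.height + 1 ≤ P.height := Order.add_one_le_of_lt (Ideal.height_strict_mono_of_isPrime (hQP.lt_of_ne hQP'))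
        have a2 : P.height + 1 ≤ (IsLocalRing.maximalIdeal R).height :=
          Order.add_one_le_of_lt (Ideal.height_strict_mono_of_isPrime ((IsLocalRing.le_maximalIdeal (Ideal.IsPrime.ne_top inferInstance)).lt_of_ne
            fun e => hP (e ▸ IsLocalRing.maximalIdeal.isMaximal R)))
        have a3 : (IsLocalRing.maximalIdeal R).height ≤ 1 :=
          WithBot.coe_le_coe.1 (le_of_eq_of_le IsLocalRing.maximalIdeal_height_eq_ringKrullDim hdR)
        have a4 : (1 : ℕ∞) + 1 ≤ 1 :=
          le_trans (le_trans (add_le_add_left (le_trans le_add_self a1) 1) a2) a3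
        exact absurd a4 (by decide)
    refine CdTameLib.cdLE_of_forall_cdP fun p hp _ => ?_
    haveI := Fact.mk hp
    refine CdTameLib.cdP_iff.2 ((S3486.result R h1 p hp ?_ P hmin).1 0 ?_)
    · simpa using (hℓ p hp).map (algebraMap O R)
    · exact CdTameLib.cdP_iff.1 (CdTameLib.cdP_of_cdLE (cdLE_zero_of_sepClosed _ _))

/-- The punctured spectrum of a two-dimensional henselian normal domain has cohomological dimension three. -/
theorem facts (k : Type u) [Field k] [CharZero k]
    (R₀ : Type u) [CommRing R₀] [IsDomain R₀] [Algebra k R₀]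
    [IsIntegrallyClosed R₀] (hexc : EGA4.IsExcellent R₀) (hdim : ringKrullDim R₀ = 2)
    (K : Type u) [Field K] [Algebra R₀ K] [Algebra (FractionRing R₀) K]
    [IsScalarTower R₀ (FractionRing R₀) K] [FiniteDimensional (FractionRing R₀) K]
    (U : (Spec (CommRingCat.of ↥(integralClosure R₀ K))).Opens)
    (hU : ∀ x : ↥(Spec (CommRingCat.of ↥(integralClosure R₀ K))), x ∈ U →
      ¬ IsClosed ({x} : Set ↥(Spec (CommRingCat.of ↥(integralClosure R₀ K)))))
    (hne : Nonempty ↥(↑U : Scheme.{u}))
    (hcdK : EtCoh.CohDimLE (Spec (CommRingCat.of K)) 2)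
    (hcdv : ∀ x : ↥(↑U : Scheme.{u}), IsClosed ({x} : Set ↥(↑U : Scheme.{u})) →
      EtCoh.CohDimLE (Spec ((↑U : Scheme.{u}).residueField x)) 1) :
    IsNoetherian (↑U : Scheme.{u}) ∧ IsIntegral (↑U : Scheme.{u}) ∧ CdLE Set.univ (↑U : Scheme.{u}) 3 ∧
      topologicalKrullDim ↥(↑U : Scheme.{u}) ≤ ((1 : ℕ) : WithBot ℕ∞) ∧
      (∀ ℓ : ℕ, ℓ.Prime → ∀ y : ↥(↑U : Scheme.{u}), IsUnit (ℓ : (↑U : Scheme.{u}).presheaf.stalk y)) := by
  classical
  haveI : IsNoetherianRing R₀ := hexc.1
  haveI : CharZero R₀ := charZero_of_injective_algebraMap (algebraMap k R₀).injective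
  haveI : CharZero (FractionRing R₀) := charZero_of_injective_algebraMap (IsFractionRing.injective R₀ (FractionRing R₀))
  haveI : Module.Finite R₀ ↥(integralClosure R₀ K) :=
    IsIntegralClosure.finite R₀ (FractionRing R₀) K ↥(integralClosure R₀ K)
  haveI : IsNoetherianRing ↥(integralClosure R₀ K) := IsNoetherianRing.of_finite R₀ _
  haveI : IsFractionRing ↥(integralClosure R₀ K) K :=
    integralClosure.isFractionRing_of_finite_extension (FractionRing R₀) K
  haveI : IsNoetherian (↑U : Scheme.{u}) := by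
    haveI : IsLocallyNoetherian (↑U : Scheme.{u}) := isLocallyNoetherian_of_isOpenImmersion U.ι
    haveI : CompactSpace ↥(↑U : Scheme.{u}) := isCompact_iff_compactSpace.1 (TopologicalSpace.NoetherianSpace.isCompact
      (α := ↥(Spec (CommRingCat.of ↥(integralClosure R₀ K)))) (U : Set _))
    exact {}
  haveI : IsIntegral (↑U : Scheme.{u}) := isIntegral_of_isOpenImmersion U.ι
  have hd : ringKrullDim ↥(integralClosure R₀ K) ≤ 2 := hdim ▸ ringKrullDim_integralClosure_le R₀ K
  have hnm : ∀ x : ↥(↑U : Scheme.{u}), ¬ (U.ι x : PrimeSpectrum ↥(integralClosure R₀ K)).asIdeal.IsMaximal :=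
    fun x hx => hU _ x.2 ((PrimeSpectrum.isClosed_singleton_iff_isMaximal _).2 hx)
  have hgen : U.ι (genericPoint ↥(↑U : Scheme.{u})) = (⊥ : PrimeSpectrum ↥(integralClosure R₀ K)) := by
    rw [genericPoint_eq_of_isOpenImmersion]
    exact genericPoint_eq_bot_of_affine _
  have hclosed : ∀ x : ↥(↑U : Scheme.{u}), x ≠ genericPoint ↥(↑U : Scheme.{u}) → IsClosed ({x} : Set ↥(↑U : Scheme.{u})) := by
    intro x hx
    refine closure_subset_iff_isClosed.1 fun y hy => ?_
    have hle : (U.ι x : PrimeSpectrum ↥(integralClosure R₀ K)).asIdeal ≤ (U.ι y : PrimeSpectrum ↥(integralClosure R₀ K)).asIdeal :=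
      (PrimeSpectrum.le_iff_specializes _ _).2 ((specializes_iff_mem_closure.2 hy).map U.ι.continuous)
    by_contra hne
    have hlt : (U.ι x : PrimeSpectrum ↥(integralClosure R₀ K)).asIdeal < (U.ι y : PrimeSpectrum ↥(integralClosure R₀ K)).asIdeal :=
      hle.lt_of_ne fun e => hne (U.ι.isOpenEmbedding.injective (PrimeSpectrum.ext e).symm)
    have h0 : (⊥ : Ideal ↥(integralClosure R₀ K)) < (U.ι x : PrimeSpectrum ↥(integralClosure R₀ K)).asIdeal :=
      bot_lt_iff_ne_bot.2 fun e => hx (U.ι.isOpenEmbedding.injective ((PrimeSpectrum.ext e).trans hgen.symm))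
    have a1 : (1 : ℕ∞) ≤ (U.ι x : PrimeSpectrum ↥(integralClosure R₀ K)).asIdeal.height :=
      le_trans le_add_self (Order.add_one_le_of_lt (Ideal.height_strict_mono_of_isPrime h0))
    have a2 := (Order.add_one_le_of_lt (Ideal.height_strict_mono_of_isPrime hlt)).trans (height_le_one hd _ (hnm y))
    exact absurd ((add_le_add_left a1 1).trans a2) (by decide)
  let φ : ↥(↑U : Scheme.{u}) → ℕ := fun x => if x = genericPoint ↥(↑U : Scheme.{u}) then 3 else 1
  have h1 : ∀ x : ↥(↑U : Scheme.{u}), CdLE Set.univ (Spec ((↑U : Scheme.{u}).residueField x)) (φ x) := fun x => by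
    by_cases hx : x = genericPoint ↥(↑U : Scheme.{u})
    · subst hx
      simp only [φ, if_true]
      refine CdLE.mono ?_ (by norm_num : 2 ≤ 3)
      obtain ⟨e₂⟩ := nonempty_stalk_iso_fraction K (U.ι (genericPoint ↥(↑U : Scheme.{u}))) hgen
      let e₁ := U.stalkIso (genericPoint ↥(↑U : Scheme.{u}))
      let r := (↑U : Scheme.{u}).residue (genericPoint ↥(↑U : Scheme.{u}))
      haveI : IsIso r := by
        refine (ConcreteCategory.isIso_iff_bijective r).2
          ⟨RingHom.injective (R := (↑U : Scheme.{u}).functionField) r.hom, IsLocalRing.residue_surjective⟩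
      exact cdLE_of_iso (asIso (Spec.map (e₂.inv ≫ e₁.inv ≫ r))) (cdLE_univ_iff.2 hcdK)
    · simp only [φ, if_neg hx]
      exact cdLE_univ_iff.2 (hcdv x (hclosed x hx))
  have hℓ : ∀ (y : ↥(↑U : Scheme.{u})) (ℓ : ℕ), ℓ.Prime → IsUnit (ℓ : (↑U : Scheme.{u}).presheaf.stalk y) := fun y ℓ hp => by
    let g : k →+* (↑U : Scheme.{u}).presheaf.stalk y :=
      ((↑U : Scheme.{u}).presheaf.germ ⊤ y trivial).hom.comp (U.ι.appTop.hom.comp
        ((Scheme.ΓSpecIso (CommRingCat.of ↥(integralClosure R₀ K))).inv.hom.comp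
          ((algebraMap R₀ ↥(integralClosure R₀ K)).comp (algebraMap k R₀))))
    simpa using (IsUnit.mk0 (ℓ : k) (Nat.cast_ne_zero.2 hp.ne_zero)).map g
  refine ⟨inferInstance, inferInstance, fun F hF r hr => ?main, ?dim, fun ℓ hℓp y => hℓ y ℓ hℓp⟩
  case dim =>
    refine CdTameLib.topologicalKrullDim_le_of_stalk (d := 1) fun y => ?_
    rw [ringKrullDim_eq_of_ringEquiv (U.stalkIso y).commRingCatIsoToRingEquiv]
    exact (stalk_facts (U.ι y)).trans_le (WithBot.coe_le_coe.2 (height_le_one hd _ (hnm y)))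
  refine ArtinVanLib.vanishBelow_all φ h1 (fun x y hxy hne R _ _ _ _ _ P hP => ?_) 4 F hF (fun x _ => by
      simp only [φ]; split <;> omega) r hr
  have hx : x = genericPoint ↥(↑U : Scheme.{u}) := by
    by_contra hx
    exact hne ((hclosed x hx).closure_eq ▸ hxy.mem_closure).symm
  have hy : y ≠ genericPoint ↥(↑U : Scheme.{u}) := fun e => hne (hx.trans e.symm)
  refine ⟨1, by simp only [φ, if_pos hx, if_neg hy]; omega, ?_⟩
  haveI := hP.1.1
  refine cdLE_fracQuot ?_ (hℓ y) P
  rw [ringKrullDim_eq_of_ringEquiv (U.stalkIso y).commRingCatIsoToRingEquiv]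
  refine (stalk_facts (U.ι y)).trans_le ?_
  exact WithBot.coe_le_coe.2 (height_le_one hd _ (hnm y))
end Groth.Agent.HLocCdLib
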